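import Groth.Agent.BGFpqc.Torsor
import Groth.Agent.S7482
import Groth.Agent.StkBase.SieveRefine

/-!
# Effective descent of scheme torsors along an fpqc covering family
-/

set_option autoImplicit false
set_option backward.isDefEq.respectTransparency false
set_option backward.isDefEq.respectTransparency.types false
universe u

open CategoryTheory CategoryTheory.Limits AlgebraicGeometry Opposite MonoidalCategory CartesianMonoidalCategory
open CategoryTheory.MonObj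
open Groth.StkBase (HomExt HomGlue ObjGlue IsVert map_map)

namespace Groth.BGFpqc

noncomputable section

variable {S : Scheme.{u}} {G X : Over S} [GrpObj G] {aX : AlgGrp.Action G X}

local notation "QO" => AlgSt.QuotObj Scheme.fpqcPrecoverage G aX
local notation "Q" => AlgSt.QuotSt Scheme.fpqcPrecoverage G aX

theorem quotHom_ext {A'' A' A : QO} (φ : A' ⟶ A) {χ χ' : A'' ⟶ A'} (h : χ.base = χ'.base)
    (h' : χ ≫ φ = χ' ≫ φ) : χ = χ' :=
  (existsUnique_quotHom φ (χ ≫ φ) χ.base rfl).unique ⟨rfl, rfl⟩ ⟨h.symm, h'.symm⟩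

/-- A point of a torsor over the members of a sieve gives a sieve object. -/
abbrev subObj {U V : Over S} {R : Sieve U} (z : (Stk.sieveCat R).obj) (x : V ⟶ z.obj.left) :
    (Stk.sieveCat R).obj :=
  ⟨Over.mk (x ≫ z.obj.hom), R.downward_closed z.property x⟩

theorem objGlue_ofArrows [IsAffineHom G.hom] {U : Over S} (𝒰 : Scheme.Cover.{u} Scheme.fpqcPrecoverage U.left) :
    ObjGlue Q (Sieve.ofArrows (fun i => Over.mk (𝒰.f i ≫ U.hom))
      (fun i => (Over.homMk (𝒰.f i) : Over.mk (𝒰.f i ≫ U.hom) ⟶ U))) := by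
  let R : Sieve U := Sieve.ofArrows (fun i => Over.mk (𝒰.f i ≫ U.hom))
    (fun i => (Over.homMk (𝒰.f i) : Over.mk (𝒰.f i ≫ U.hom) ⟶ U))
  have hR : R ∈ J S U := ofArrows_mem U 𝒰
  intro (H : Stk.sieveCat R ⥤ᵇ Q)
  -- the normalised family
  let A : (Stk.sieveCat R).obj → QO := fun z => pullObj (H.obj z) (eqToHom (H.w_obj z).symm)
  let i : ∀ z, A z ⟶ H.obj z := fun z => pullHom _ _
  have hj : ∀ z, ∃ j : H.obj z ⟶ A z, j.base = eqToHom (H.w_obj z) ∧ j ≫ i z = 𝟙 _ := fun z => by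
    refine (existsUnique_quotHom (i z) (𝟙 (H.obj z)) (eqToHom (H.w_obj z)) ?_).exists
    show eqToHom (H.w_obj z) ≫ eqToHom (H.w_obj z).symm = 𝟙 (H.obj z).base
    rw [eqToHom_trans, eqToHom_refl]
    rfl
  choose j hj₁ hj₂ using hj
  have hM : ∀ ⦃z z' : (Stk.sieveCat R).obj⦄ (t : z ⟶ z'),
      ∃ M : A z ⟶ A z', M.base = t.hom.left ∧ M ≫ i z' = i z ≫ H.map t := fun z z' t => by
    refine (existsUnique_quotHom (i z') (i z ≫ H.map t) t.hom.left ?_).exists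
    exact ((congrArg (eqToHom (H.w_obj z).symm ≫ ·) (map_map H t)).trans (by simp; rfl)).symm
  choose M hM₁ hM₂ using hM
  have hMc : ∀ ⦃z z' z'' : (Stk.sieveCat R).obj⦄ (t : z ⟶ z') (t' : z' ⟶ z''), M (t ≫ t') = M t ≫ M t' := by
    intro z z' z'' t t'
    refine quotHom_ext (i z'') ?_ ?_
    · rw [hM₁, AlgSt.QuotObj.comp_base, hM₁, hM₁]
      rfl
    · rw [hM₂, Category.assoc, hM₂, ← Category.assoc, hM₂, Category.assoc]
      exact congrArg (i z ≫ ·) (H.toFunctor.map_comp t t')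
  have hMid : ∀ z, M (𝟙 z) = 𝟙 (A z) := fun z => by
    refine quotHom_ext (i z) ?_ ?_
    · rw [hM₁]; rfl
    · rw [hM₂, Category.id_comp]
      exact (congrArg (i z ≫ ·) (H.toFunctor.map_id z)).trans (Category.comp_id _)
  have hjM : ∀ ⦃z z' : (Stk.sieveCat R).obj⦄ (t : z ⟶ z'), H.map t ≫ j z' = j z ≫ M t := by
    intro z z' t
    refine quotHom_ext (i z') ?_ ?_
    · rw [AlgSt.QuotObj.comp_base, AlgSt.QuotObj.comp_base, hj₁, hj₁, hM₁]
      exact (congrArg (· ≫ eqToHom (H.w_obj z')) (map_map H t)).trans (by simp; rfl)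
    · rw [Category.assoc, hj₂, Category.assoc, hM₂, ← Category.assoc, hj₂, Category.comp_id, Category.id_comp]
  have hcM : ∀ ⦃z z' : (Stk.sieveCat R).obj⦄ (t : z ⟶ z'),
      IsPullback (M t).top.left (A z).π.left (A z').π.left t.hom.left.left := fun z z' t => by
    have h := (M t).cart.map (Over.forget S)
    rw [hM₁] at h
    exact h
  -- the members
  let zi : 𝒰.I₀ → (Stk.sieveCat R).obj := fun a =>
    ⟨Over.mk (Over.homMk (𝒰.f a) : Over.mk (𝒰.f a ≫ U.hom) ⟶ U), Sieve.ofArrows_mk _ _ a⟩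
  -- the object attached to two points with the same image
  have hex : ∀ ⦃T : Scheme.{u}⦄ ⦃a b : 𝒰.I₀⦄ (x₀ : T ⟶ 𝒰.X a) (x₁ : T ⟶ 𝒰.X b), x₀ ≫ 𝒰.f a = x₁ ≫ 𝒰.f b →
      ∃ (z : (Stk.sieveCat R).obj) (e : T ≅ z.obj.left.left) (t : z ⟶ zi a) (t' : z ⟶ zi b),
        e.hom ≫ t.hom.left.left = x₀ ∧ e.hom ≫ t'.hom.left.left = x₁ := by
    intro T a b x₀ x₁ h
    let V : Over S := Over.mk ((x₀ ≫ 𝒰.f a) ≫ U.hom)
    let s₀ : V ⟶ (zi a).obj.left := Over.homMk x₀ (Category.assoc _ _ _).symm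
    let s₁ : V ⟶ (zi b).obj.left := Over.homMk x₁ (by
      show x₁ ≫ 𝒰.f b ≫ U.hom = _
      rw [← Category.assoc, ← h]; rfl)
    refine ⟨subObj (zi a) s₀, Iso.refl _, ObjectProperty.homMk (Over.homMk s₀ rfl),
      ObjectProperty.homMk (Over.homMk s₁ (Over.OverMorphism.ext h.symm)), Category.id_comp _, Category.id_comp _⟩
  have hsub : ∀ {z z' : (Stk.sieveCat R).obj} {a : 𝒰.I₀} (t : z ⟶ zi a) (t' : z' ⟶ zi a) {T : Scheme.{u}}
      (x : T ⟶ z.obj.left.left) (e : T ≅ z'.obj.left.left) (_ : x ≫ t.hom.left.left = e.hom ≫ t'.hom.left.left),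
      ∃ s : z' ⟶ z, s.hom.left.left = e.inv ≫ x ∧ s ≫ t = t' := by
    intro z z' a t t' T x e h
    have h₁ : (e.inv ≫ x) ≫ t.hom.left.left = t'.hom.left.left := by
      rw [Category.assoc, h, e.inv_hom_id_assoc]
    have w₁ := congrArg CommaMorphism.left (Over.w t.hom)
    have w₂ := congrArg CommaMorphism.left (Over.w t'.hom)
    have wS : (e.inv ≫ x) ≫ z.obj.left.hom = z'.obj.left.hom := by
      rw [← Over.w t.hom.left, ← Category.assoc, h₁, Over.w t'.hom.left]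
    refine ⟨ObjectProperty.homMk (Over.homMk (Over.homMk (e.inv ≫ x) wS) (Over.OverMorphism.ext ?_)), rfl,
      ObjectProperty.hom_ext _ (Over.OverMorphism.ext (Over.OverMorphism.ext h₁))⟩
    show (e.inv ≫ x) ≫ z.obj.hom.left = z'.obj.hom.left
    exact (congrArg ((e.inv ≫ x) ≫ ·) w₁.symm).trans ((Category.assoc _ _ _).symm.trans
      ((congrArg (· ≫ (zi a).obj.hom.left) h₁).trans w₂))
  choose zk ek tk₀ tk₁ hek₀ hek₁ using hex
  let obj : ∀ a, Over (𝒰.X a) := fun a => Over.mk (A (zi a)).π.left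
  -- sections and points
  let secEquiv : ∀ {z : (Stk.sieveCat R).obj} {a : 𝒰.I₀} (t : z ⟶ zi a) {T : Scheme.{u}} (e : T ≅ z.obj.left.left)
      (x : T ⟶ 𝒰.X a) (_ : e.hom ≫ t.hom.left.left = x),
      {w : T ⟶ (A z).P.left // w ≫ (A z).π.left = e.hom} ≃ Desc.Lifts (obj a) x := fun {z a} t {T} e x hx =>
    { toFun := fun w => ⟨w.1 ≫ (M t).top.left, by
        show (w.1 ≫ (M t).top.left) ≫ (A (zi a)).π.left = x
        rw [Category.assoc, (hcM t).w, ← Category.assoc, w.2, hx]⟩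
      invFun := fun v => ⟨(hcM t).lift v.1 e.hom (v.2.trans hx.symm), (hcM t).lift_snd _ _ _⟩
      left_inv := fun w => Subtype.ext ((hcM t).hom_ext ((hcM t).lift_fst _ _ _)
        (((hcM t).lift_snd _ _ _).trans w.2.symm))
      right_inv := fun v => Subtype.ext ((hcM t).lift_fst _ _ _) }
  let φ : ∀ ⦃T : Scheme.{u}⦄ ⦃a b : 𝒰.I₀⦄ (x₀ : T ⟶ 𝒰.X a) (x₁ : T ⟶ 𝒰.X b),
      x₀ ≫ 𝒰.f a = x₁ ≫ 𝒰.f b → (Desc.Lifts (obj a) x₀ ≃ Desc.Lifts (obj b) x₁) := fun T a b x₀ x₁ h =>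
    (secEquiv (tk₀ x₀ x₁ h) (ek x₀ x₁ h) x₀ (hek₀ x₀ x₁ h)).symm.trans
      (secEquiv (tk₁ x₀ x₁ h) (ek x₀ x₁ h) x₁ (hek₁ x₀ x₁ h))
  have key : ∀ {z : (Stk.sieveCat R).obj} {a b : 𝒰.I₀} (t : z ⟶ zi a) (t' : z ⟶ zi b) {T : Scheme.{u}}
      (w : T ⟶ (A z).P.left) (x₀ : T ⟶ 𝒰.X a) (x₁ : T ⟶ 𝒰.X b) (h : x₀ ≫ 𝒰.f a = x₁ ≫ 𝒰.f b)
      (v : Desc.Lifts (obj a) x₀), (w ≫ (A z).π.left) ≫ t.hom.left.left = x₀ →
      (w ≫ (A z).π.left) ≫ t'.hom.left.left = x₁ → v.1 = w ≫ (M t).top.left →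
      (φ x₀ x₁ h v).1 = w ≫ (M t').top.left := by
    intro z a b t t' T w x₀ x₁ h v h₀ h₁ hv
    obtain ⟨s, hs, hst⟩ := hsub t (tk₀ x₀ x₁ h) (w ≫ (A z).π.left) (ek x₀ x₁ h) (by rw [h₀, hek₀])
    have hst' : s ≫ t' = tk₁ x₀ x₁ h := by
      refine ObjectProperty.hom_ext _ (Over.OverMorphism.ext (Over.OverMorphism.ext ?_))
      show s.hom.left.left ≫ t'.hom.left.left = _
      rw [hs, Category.assoc, h₁]
      exact (Iso.inv_comp_eq _).2 (hek₁ x₀ x₁ h).symm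
    let σ := (hcM s).lift w (ek x₀ x₁ h).hom (by rw [hs, Iso.hom_inv_id_assoc])
    have hσ : σ ≫ (M s).top.left = w := (hcM s).lift_fst _ _ _
    have e₀ : (secEquiv (tk₀ x₀ x₁ h) (ek x₀ x₁ h) x₀ (hek₀ x₀ x₁ h)) ⟨σ, (hcM s).lift_snd _ _ _⟩ = v := by
      refine Subtype.ext ?_
      show σ ≫ (M (tk₀ x₀ x₁ h)).top.left = v.1
      rw [← hst, hMc, AlgSt.QuotObj.comp_top, Over.comp_left, ← Category.assoc, hσ, hv]
    change ((secEquiv (tk₁ x₀ x₁ h) (ek x₀ x₁ h) x₁ (hek₁ x₀ x₁ h))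
      ((secEquiv (tk₀ x₀ x₁ h) (ek x₀ x₁ h) x₀ (hek₀ x₀ x₁ h)).symm v)).1 = _
    rw [← e₀, Equiv.symm_apply_apply]
    show σ ≫ (M (tk₁ x₀ x₁ h)).top.left = _
    rw [← hst', hMc, AlgSt.QuotObj.comp_top, Over.comp_left, ← Category.assoc, hσ]
  have hsec : ∀ ⦃T : Scheme.{u}⦄ ⦃a b : 𝒰.I₀⦄ (x₀ : T ⟶ 𝒰.X a) (x₁ : T ⟶ 𝒰.X b) (h : x₀ ≫ 𝒰.f a = x₁ ≫ 𝒰.f b)
      (v : Desc.Lifts (obj a) x₀), ∃ σ : T ⟶ (A (zk x₀ x₁ h)).P.left,
      σ ≫ (A (zk x₀ x₁ h)).π.left = (ek x₀ x₁ h).hom ∧ σ ≫ (M (tk₀ x₀ x₁ h)).top.left = v.1 ∧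
        σ ≫ (M (tk₁ x₀ x₁ h)).top.left = (φ x₀ x₁ h v).1 := fun T a b x₀ x₁ h v =>
    ⟨((secEquiv (tk₀ x₀ x₁ h) (ek x₀ x₁ h) x₀ (hek₀ x₀ x₁ h)).symm v).1,
      ((secEquiv (tk₀ x₀ x₁ h) (ek x₀ x₁ h) x₀ (hek₀ x₀ x₁ h)).symm v).2,
      congrArg Subtype.val ((secEquiv (tk₀ x₀ x₁ h) (ek x₀ x₁ h) x₀ (hek₀ x₀ x₁ h)).apply_symm_apply v), rfl⟩
  let D : Desc.SchDDFam 𝒰.f :=
    { obj := obj
      φ := φ
      φ_natural := fun T T' g a b x₀ x₁ h y₀ y₁ hy₀ hy₁ h' v v' hv' => by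
        obtain ⟨σ, hσ, hσ₀, hσ₁⟩ := hsec x₀ x₁ h v
        rw [← hσ₁, ← Category.assoc]
        refine key (tk₀ x₀ x₁ h) (tk₁ x₀ x₁ h) (g ≫ σ) y₀ y₁ h' v' ?_ ?_ ?_
        · rw [Category.assoc g, hσ, Category.assoc, hek₀, hy₀]
        · rw [Category.assoc g, hσ, Category.assoc, hek₁, hy₁]
        · rw [hv', ← hσ₀, Category.assoc]
      φ_self := fun T a x v => Subtype.ext (by
        have hv : v.1 ≫ (A (zi a)).π.left = x := v.2
        refine (key (𝟙 (zi a)) (𝟙 (zi a)) v.1 x x rfl v ?_ ?_ ?_).trans ?_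
        · exact (Category.comp_id _).trans hv
        · exact (Category.comp_id _).trans hv
        · rw [hMid]; exact (Category.comp_id _).symm
        · rw [hMid]; exact Category.comp_id _)
      φ_comp := fun T a b c x₀ x₁ x₂ h₀₁ h₁₂ v => Subtype.ext (by
        obtain ⟨σ, hσ, hσ₀, hσ₁⟩ := hsec x₀ x₁ h₀₁ v
        let z := zk x₀ x₁ h₀₁
        have w₀ := congrArg CommaMorphism.left (Over.w (tk₁ x₀ x₁ h₀₁).hom)
        have hx₁ : (ek x₀ x₁ h₀₁).inv ≫ x₁ = (tk₁ x₀ x₁ h₀₁).hom.left.left :=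
          (Iso.inv_comp_eq _).2 (hek₁ x₀ x₁ h₀₁).symm
        let s₂ : z.obj.left ⟶ (zi c).obj.left := Over.homMk ((ek x₀ x₁ h₀₁).inv ≫ x₂) (by
          show ((ek x₀ x₁ h₀₁).inv ≫ x₂) ≫ 𝒰.f c ≫ U.hom = _
          rw [Category.assoc, ← Category.assoc x₂, ← h₁₂, Category.assoc, ← Category.assoc _ x₁, hx₁]
          exact Over.w (tk₁ x₀ x₁ h₀₁).hom.left)
        let t₂ : z ⟶ zi c := ObjectProperty.homMk (Over.homMk s₂ (Over.OverMorphism.ext (by
          show ((ek x₀ x₁ h₀₁).inv ≫ x₂) ≫ 𝒰.f c = z.obj.hom.left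
          rw [Category.assoc, ← h₁₂, ← Category.assoc, hx₁]
          exact w₀)))
        have ht₂ : (σ ≫ (A z).π.left) ≫ t₂.hom.left.left = x₂ := by
          rw [hσ]; exact Iso.hom_inv_id_assoc _ _
        rw [key (tk₁ x₀ x₁ h₀₁) t₂ σ x₁ x₂ h₁₂ (φ x₀ x₁ h₀₁ v) (by rw [hσ, hek₁]) ht₂ hσ₁.symm,
          key (tk₀ x₀ x₁ h₀₁) t₂ σ x₀ x₂ _ v (by rw [hσ, hek₀]) ht₂ hσ₀.symm]) }
  obtain ⟨P₀, ⟨e⟩⟩ := Groth.Agent.S7482.result 𝒰.f 𝒰.mem₀ D fun a => by
    intro V hV W hW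
    have : IsAffineHom (D.obj a).hom := isAffineHom_π (A (zi a))
    have : IsAffine ((D.obj a).hom ⁻¹ᵁ V : Scheme.{u}) := hV.preimage _
    have : CompactSpace (W : Scheme.{u}) := isCompact_iff_compactSpace.1 hW
    exact Scheme.IsQuasiAffine.of_isImmersion W.ι
  -- the projections from the members
  let ea : ∀ a, obj a ⟶ Over.mk (pullback.fst (𝒰.f a) P₀.hom) := fun a => e.inv.hom a
  let qi : ∀ a, (A (zi a)).P.left ⟶ P₀.left := fun a => (ea a).left ≫ pullback.snd (𝒰.f a) P₀.hom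
  have hqi : ∀ a, IsPullback (qi a) (A (zi a)).π.left P₀.hom (𝒰.f a) := fun a => by
    have : IsIso (ea a) := ⟨e.hom.hom a, by
      exact (congrArg (fun m => m.hom a) e.inv_hom_id : _), congrArg (fun m => m.hom a) e.hom_inv_id⟩
    refine (IsPullback.of_hasPullback (𝒰.f a) P₀.hom).flip.of_iso
      ((Over.forget _).mapIso (asIso (ea a))).symm (Iso.refl _) (Iso.refl _) (Iso.refl _) ?_ ?_ (by simp) (by simp)
    · simp [qi, ea]
      rw [← Category.assoc, ← Over.comp_left, IsIso.inv_hom_id]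
      simp
    · simp only [Functor.mapIso_hom, Iso.symm_hom, Iso.refl_hom, Category.comp_id, Over.forget_map,
        asIso_inv, Functor.mapIso_inv]
      exact (Over.w (inv (ea a))).symm
  have hqφ : ∀ {T : Scheme.{u}} {a b : 𝒰.I₀} (x₀ : T ⟶ 𝒰.X a) (x₁ : T ⟶ 𝒰.X b) (h : x₀ ≫ 𝒰.f a = x₁ ≫ 𝒰.f b)
      (v : Desc.Lifts (obj a) x₀), (φ x₀ x₁ h v).1 ≫ qi b = v.1 ≫ qi a := by
    intro T a b x₀ x₁ h v
    have hc := e.inv.comm x₀ x₁ h v ((e.inv : D ⟶ (Desc.toDDFam 𝒰.f).obj P₀).push v) rfl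
    have hc' := congrArg (· ≫ pullback.snd (𝒰.f b) P₀.hom) hc
    simp only [Category.assoc] at hc'
    refine hc'.symm.trans ?_
    show (Desc.canMapFam 𝒰.f P₀ x₀ x₁ h ⟨v.1 ≫ (ea a).left, _⟩).1 ≫ _ = _
    rw [Desc.canMapFam_val, pullback.lift_snd, Category.assoc]
  have hind : ∀ {z : (Stk.sieveCat R).obj} {a b : 𝒰.I₀} (t : z ⟶ zi a) (t' : z ⟶ zi b),
      (M t).top.left ≫ qi a = (M t').top.left ≫ qi b := by
    intro z a b t t'
    have h : ((A z).π.left ≫ t.hom.left.left) ≫ 𝒰.f a = ((A z).π.left ≫ t'.hom.left.left) ≫ 𝒰.f b := by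
      rw [Category.assoc, Category.assoc]
      exact congrArg ((A z).π.left ≫ ·) ((congrArg CommaMorphism.left (Over.w t.hom)).trans
        (congrArg CommaMorphism.left (Over.w t'.hom)).symm)
    let v : Desc.Lifts (obj a) ((A z).π.left ≫ t.hom.left.left) := ⟨(M t).top.left, (hcM t).w⟩
    have hk := key t t' (𝟙 _) _ _ h v (by rw [Category.id_comp]) (by rw [Category.id_comp]) (Category.id_comp _).symm
    rw [Category.id_comp] at hk
    rw [← hk]
    exact (hqφ _ _ h v).symm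
  have hmemb : ∀ z : (Stk.sieveCat R).obj, ∃ a, Nonempty (z ⟶ zi a) := fun z => by
    obtain ⟨W, g, m, ⟨a⟩, hfac⟩ : Sieve.ofArrows _ _ z.obj.hom := z.property
    exact ⟨a, ⟨ObjectProperty.homMk (Over.homMk g hfac)⟩⟩
  choose ca hca using hmemb
  let ct : ∀ z, z ⟶ zi (ca z) := fun z => (hca z).some
  -- the glued scheme
  let P : Over S := Over.mk (P₀.hom ≫ U.hom)
  let π : P ⟶ U := Over.homMk P₀.hom rfl
  have hq₀ : ∀ z, IsPullback ((M (ct z)).top.left ≫ qi (ca z)) (A z).π.left P₀.hom z.obj.hom.left := fun z => by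
    have := (hcM (ct z)).paste_horiz (hqi (ca z))
    rwa [show (ct z).hom.left.left ≫ 𝒰.f (ca z) = z.obj.hom.left from
      congrArg CommaMorphism.left (Over.w (ct z).hom)] at this
  let q : ∀ z, (A z).P ⟶ P := fun z => Over.homMk ((M (ct z)).top.left ≫ qi (ca z)) (by
    show ((M (ct z)).top.left ≫ qi (ca z)) ≫ P₀.hom ≫ U.hom = (A z).P.hom
    rw [← Category.assoc, (hq₀ z).w, Category.assoc, Over.w z.obj.hom]
    exact Over.w (A z).π)
  have hq : ∀ z, IsPullback (q z) (A z).π π z.obj.hom := fun z =>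
    IsPullback.of_map (Over.forget S) (Over.OverMorphism.ext (hq₀ z).w) (hq₀ z)
  have hqn : ∀ ⦃z z' : (Stk.sieveCat R).obj⦄ (t : z ⟶ z'), (M t).top ≫ q z' = q z := fun z z' t => by
    refine Over.OverMorphism.ext ?_
    show (M t).top.left ≫ (M (ct z')).top.left ≫ qi (ca z') = (M (ct z)).top.left ≫ qi (ca z)
    rw [← Category.assoc, ← Over.comp_left, ← AlgSt.QuotObj.comp_top, ← hMc]
    exact hind _ _
  -- factorisations
  have hfac : ∀ {Y V : Over S} (k : V ⟶ Y ⊗ P), R (k ≫ snd Y P ≫ π) →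
      ∃ (z : (Stk.sieveCat R).obj) (y : V ⟶ Y ⊗ (A z).P), y ≫ (Y ◁ q z) = k := by
    intro Y V k hk
    let z : (Stk.sieveCat R).obj := ⟨Over.mk (k ≫ snd Y P ≫ π), hk⟩
    let σ : V ⟶ (A z).P := (hq z).lift (k ≫ snd Y P) (𝟙 V) (by simp [z])
    refine ⟨z, lift (k ≫ fst Y P) σ, ?_⟩
    apply CartesianMonoidalCategory.hom_ext
    · simp
    · simp only [Category.assoc, whiskerLeft_snd, lift_snd_assoc]
      exact (hq z).lift_fst _ _ _
  have hfac₁ : ∀ {V : Over S} (k : V ⟶ P), R (k ≫ π) →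
      ∃ (z : (Stk.sieveCat R).obj) (y : V ⟶ (A z).P), y ≫ q z = k := fun {V} k hk =>
    ⟨⟨Over.mk (k ≫ π), hk⟩, (hq _).lift k (𝟙 V) (by simp), (hq _).lift_fst _ _ _⟩
  -- the action
  have hval : ∀ {V : Over S} (k : V ⟶ G ⊗ P), R (k ≫ snd G P ≫ π) → ∃ v : V ⟶ P,
      ∀ (z : (Stk.sieveCat R).obj) (y : V ⟶ G ⊗ (A z).P), y ≫ (G ◁ q z) = k → y ≫ (A z).act.act ≫ q z = v := by
    intro V k hk
    let z₀ : (Stk.sieveCat R).obj := ⟨Over.mk (k ≫ snd G P ≫ π), hk⟩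
    let σ : V ⟶ (A z₀).P := (hq z₀).lift (k ≫ snd G P) (𝟙 V) (by simp [z₀])
    refine ⟨lift (k ≫ fst G P) σ ≫ (A z₀).act.act ≫ q z₀, fun z y hy => ?_⟩
    have hsnd : (y ≫ snd G (A z).P) ≫ q z = k ≫ snd G P := by
      rw [Category.assoc, ← whiskerLeft_snd, ← Category.assoc, hy]
    let s : z₀ ⟶ z := ObjectProperty.homMk (Over.homMk ((y ≫ snd G (A z).P) ≫ (A z).π) (by
      show ((y ≫ snd G (A z).P) ≫ (A z).π) ≫ z.obj.hom = k ≫ snd G P ≫ π
      rw [Category.assoc, ← (hq z).w, ← Category.assoc (y ≫ snd G (A z).P), hsnd, Category.assoc]))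
    have hσ : σ ≫ (M s).top = y ≫ snd G (A z).P := by
      apply (hq z).hom_ext
      · rw [Category.assoc, hqn s, hsnd]
        exact (hq z₀).lift_fst _ _ _
      · rw [Category.assoc, (M s).cart.w, hM₁]
        show σ ≫ (A z₀).π ≫ ((y ≫ snd G (A z).P) ≫ (A z).π) = _
        rw [← Category.assoc σ, (hq z₀).lift_snd]
        exact Category.id_comp _
    have hy' : y = lift (k ≫ fst G P) σ ≫ (G ◁ (M s).top) := by
      apply CartesianMonoidalCategory.hom_ext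
      · simp [← hy]
      · simp [hσ]
    rw [hy', Category.assoc, ← Category.assoc (G ◁ (M s).top), ← (M s).eqv, Category.assoc, hqn s]
  choose v hv using @hval
  have hT : ∀ Y : Over S, R.pullback (snd Y P ≫ π) ∈ J S (Y ⊗ P) := fun Y => (J S).pullback_stable _ hR
  obtain ⟨act, hact₀⟩ := cov_glue (hT G) (fun V k hk => v k hk) fun V V' k hk l => by
    obtain ⟨z, y, hy⟩ := hfac k hk
    rw [← hv k hk z y hy, ← hv (l ≫ k) _ z (l ≫ y) (by rw [Category.assoc, hy]), Category.assoc]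
  have hmemq : ∀ (Y : Over S) (z : (Stk.sieveCat R).obj), R ((Y ◁ q z) ≫ snd Y P ≫ π) := fun Y z => by
    rw [whiskerLeft_snd_assoc, (hq z).w, ← Category.assoc]
    exact R.downward_closed z.property _
  have hact : ∀ z, (G ◁ q z) ≫ act = (A z).act.act ≫ q z := fun z => by
    rw [hact₀ _ (hmemq G z), ← hv _ _ z (𝟙 _) (Category.id_comp _), Category.id_comp]
  have hone : (η[G] ▷ P) ≫ act = (λ_ P).hom := cov_ext (hT (𝟙_ (Over S))) fun V k hk => by
    obtain ⟨z, y, rfl⟩ := hfac k hk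
    rw [Category.assoc, Category.assoc, ← Category.assoc _ _ act, whisker_exchange, Category.assoc, hact,
      ← Category.assoc (η[G] ▷ (A z).P), (A z).act.one_act, leftUnitor_naturality]
  have hmul : (μ[G] ▷ P) ≫ act = (α_ G G P).hom ≫ (G ◁ act) ≫ act := cov_ext (hT (G ⊗ G)) fun V k hk => by
    obtain ⟨z, y, rfl⟩ := hfac k hk
    simp only [Category.assoc]
    rw [← Category.assoc _ _ act, whisker_exchange, Category.assoc, hact, ← Category.assoc (μ[G] ▷ (A z).P),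
      (A z).act.mul_act, ← Category.assoc ((G ⊗ G) ◁ q z), associator_naturality_right, Category.assoc,
      Category.assoc, Category.assoc, ← MonoidalCategory.whiskerLeft_comp_assoc, hact,
      MonoidalCategory.whiskerLeft_comp, Category.assoc, hact]
  have hsq : act ≫ π = snd G P ≫ π := cov_ext (hT G) fun V k hk => by
    obtain ⟨z, y, rfl⟩ := hfac k hk
    simp only [Category.assoc]
    rw [← Category.assoc _ act, hact, Category.assoc, (hq z).w, ← Category.assoc (A z).act.act, (A z).cart.w,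
      whiskerLeft_snd_assoc, (hq z).w, Category.assoc]
  have hcart : IsPullback act (snd G P) π π := by
    refine isPullback_of_local ((J S).pullback_stable π hR) hsq fun V k x hk hx => ?_
    let z : (Stk.sieveCat R).obj := ⟨Over.mk (k ≫ π), hk⟩
    let σ : V ⟶ (A z).P := (hq z).lift k (𝟙 V) (by simp [z])
    let xz : V ⟶ (A z).P := (hq z).lift x (𝟙 V) (by rw [hx]; simp [z])
    have hσ : σ ≫ q z = k := (hq z).lift_fst _ _ _
    have hxz : xz ≫ q z = x := (hq z).lift_fst _ _ _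
    have hw : xz ≫ (A z).π = σ ≫ (A z).π := ((hq z).lift_snd _ _ _).trans ((hq z).lift_snd _ _ _).symm
    let y₀ := (A z).cart.lift xz σ hw
    refine ⟨y₀ ≫ (G ◁ q z), ⟨?_, ?_⟩, fun y' hy' => ?_⟩
    · rw [Category.assoc, hact, ← Category.assoc, (A z).cart.lift_fst, hxz]
    · rw [Category.assoc, whiskerLeft_snd, ← Category.assoc, (A z).cart.lift_snd, hσ]
    · let y'' : V ⟶ G ⊗ (A z).P := lift (y' ≫ fst G P) σ
      have hy'' : y'' ≫ (G ◁ q z) = y' := by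
        apply CartesianMonoidalCategory.hom_ext
        · simp [y'']
        · simp [y'', hσ, hy'.2]
      have : y'' = y₀ := by
        apply (A z).cart.hom_ext
        · rw [(A z).cart.lift_fst]
          apply (hq z).hom_ext
          · rw [Category.assoc, ← hact, ← Category.assoc, hy'', hy'.1, hxz]
          · rw [Category.assoc, (A z).cart.w, ← Category.assoc, show y'' ≫ snd G (A z).P = σ from lift_snd _ _]
            exact hw.symm
        · rw [(A z).cart.lift_snd]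
          exact lift_snd _ _
      rw [← hy'', this]
  -- the map to X
  have hvalφ : ∀ {V : Over S} (k : V ⟶ P), R (k ≫ π) → ∃ v : V ⟶ X,
      ∀ (z : (Stk.sieveCat R).obj) (y : V ⟶ (A z).P), y ≫ q z = k → y ≫ (A z).φ = v := by
    intro V k hk
    let z₀ : (Stk.sieveCat R).obj := ⟨Over.mk (k ≫ π), hk⟩
    let σ : V ⟶ (A z₀).P := (hq z₀).lift k (𝟙 V) (by simp [z₀])
    refine ⟨σ ≫ (A z₀).φ, fun z y hy => ?_⟩
    let s : z₀ ⟶ z := ObjectProperty.homMk (Over.homMk (y ≫ (A z).π) (by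
      show (y ≫ (A z).π) ≫ z.obj.hom = k ≫ π
      rw [Category.assoc, ← (hq z).w, ← Category.assoc, hy]))
    have hσ : σ ≫ (M s).top = y := by
      apply (hq z).hom_ext
      · rw [Category.assoc, hqn s, hy]
        exact (hq z₀).lift_fst _ _ _
      · rw [Category.assoc, (M s).cart.w, hM₁]
        show σ ≫ (A z₀).π ≫ (y ≫ (A z).π) = _
        rw [← Category.assoc σ, (hq z₀).lift_snd]
        exact Category.id_comp _
    rw [← hσ, Category.assoc, (M s).wφ]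
  choose vφ hvφ using @hvalφ
  obtain ⟨φX, hφ₀⟩ := cov_glue ((J S).pullback_stable π hR) (fun V k hk => vφ k hk) fun V V' k hk l => by
    obtain ⟨z, y, hy⟩ := hfac₁ k hk
    rw [← hvφ k hk z y hy, ← hvφ (l ≫ k) _ z (l ≫ y) (by rw [Category.assoc, hy]), Category.assoc]
  have hφ : ∀ z, q z ≫ φX = (A z).φ := fun z => by
    have hk : R (q z ≫ π) := by rw [(hq z).w]; exact R.downward_closed z.property _
    rw [hφ₀ _ hk, ← hvφ _ hk z (𝟙 _) (Category.id_comp _), Category.id_comp]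
  have heqv : act ≫ φX = (G ◁ φX) ≫ aX.act := cov_ext (hT G) fun V k hk => by
    obtain ⟨z, y, rfl⟩ := hfac k hk
    simp only [Category.assoc]
    rw [← Category.assoc _ act, hact, Category.assoc, hφ, (A z).eqv, ← MonoidalCategory.whiskerLeft_comp_assoc, hφ]
  -- local triviality
  have hloc : NonAbH1.IsLocallyTrivialFor Scheme.fpqcPrecoverage (Over.mk π.left : Over U.left) := by
    choose C hC hs using fun a => (A (zi a)).loc
    choose E hE using fun a => Precoverage.mem_iff_exists_zeroHypercover.1 (hC a)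
    refine ⟨_, @Precoverage.IsStableUnderComposition.comp_mem_coverings _ _ Scheme.fpqcPrecoverage _
      (ULift.{u + 1} 𝒰.I₀) U.left (fun a => 𝒰.X a.down) (fun a => 𝒰.f a.down) ?_ _ _
      (fun a => (E a.down).f) (fun a => (E a.down).mem₀), ?_⟩
    · have := 𝒰.mem₀
      convert this using 1
      funext T g
      apply propext
      constructor
      · rintro ⟨a⟩
        exact Presieve.ofArrows.mk _
      · rintro ⟨a⟩
        exact Presieve.ofArrows.mk (ULift.up a)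
    · rintro T _ ⟨⟨⟨a⟩, b⟩⟩
      obtain ⟨s, hs⟩ := hs a ((E a).f b) (by rw [hE a]; exact Presieve.ofArrows.mk b)
      have hs' : s ≫ (A (zi a)).π.left = (E a).f b := hs
      refine ⟨s ≫ qi a, ?_⟩
      show (s ≫ qi a) ≫ P₀.hom = _
      rw [Category.assoc, (hqi a).w, ← Category.assoc, hs']
  let a₀ : QO :=
    { base := U, P := P, act := ⟨act, hone, hmul⟩, π := π, cart := hcart, loc := hloc, φ := φX, eqv := heqv }
  let c' : ∀ z, A z ⟶ a₀ := fun z => ⟨z.obj.hom, q z, (hact z).symm, hq z, hφ z⟩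
  refine ⟨a₀, rfl, fun z => j z ≫ c' z, fun z => ?_, fun z z' t => ?_⟩
  · show (j z ≫ c' z).base = _
    rw [AlgSt.QuotObj.comp_base, hj₁]
    simp [c']
  · rw [← Category.assoc, hjM, Category.assoc]
    congr 1
    exact AlgSt.QuotObj.hom_ext ((congrArg (· ≫ z'.obj.hom) (hM₁ t)).trans (Over.w t.hom)) (hqn t)

variable (aX) in
/-- The quotient category of an action of an affine group scheme is a stack for the fpqc topology. -/
theorem isStack_quotSt [IsAffineHom G.hom] : Stk.IsStack (J S) Q := by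
  refine ⟨isFibGrpd_quotSt aX, fun U R hR => ?_⟩
  obtain ⟨𝒰, h𝒰⟩ := exists_cover_of_mem hR
  have hS := ofArrows_mem U 𝒰
  refine Groth.StkBase.isStackFor_of_refine (isFibGrpd_quotSt aX)
    ((Sieve.generate_le_iff _ _).2 (Presieve.ofArrows_le_iff.2 h𝒰)) (Groth.StkBase.isStackFor_mk (isFibGrpd_quotSt aX)
      (homExt_quotSt hS) (homGlue_quotSt hS) (objGlue_ofArrows 𝒰)) fun V f hf => ?_
  have hS' := (J S).pullback_stable f hS
  exact Groth.StkBase.isPrestackFor_mk (isFibGrpd_quotSt aX) (homExt_quotSt hS') (homGlue_quotSt hS')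

end

end Groth.BGFpqc
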