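import Mathlib
import Groth.Prelude.Def_QuotSh
import Groth.Agent.DescentBase.FpqcCover
import Groth.Agent.EtaleBase.FpqcDescent

/-!
# The big fpqc site over `S`: gluing of points, locality of cartesian squares and of affineness
-/

set_option autoImplicit false
set_option backward.isDefEq.respectTransparency false
set_option backward.isDefEq.respectTransparency.types false
universe u

open CategoryTheory CategoryTheory.Limits AlgebraicGeometry Opposite

namespace Groth.BGFpqc

variable {S : Scheme.{u}}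

/-- The big fpqc topology over `S`. -/
abbrev J (S : Scheme.{u}) : GrothendieckTopology (Over S) := QuotSh.J Scheme.fpqcPrecoverage S

/-- The sheaf condition of a representable, at the level of schemes. -/
theorem yoneda_isSheafFor {U : Over S} {R : Sieve U} (hR : R ∈ J S U) (Z : Scheme.{u}) :
    Presieve.IsSheafFor (yoneda.obj Z) (Sieve.overEquiv U R).arrows :=
  GrothendieckTopology.Subcanonical.isSheaf_of_isRepresentable (J := Scheme.fpqcTopology) (yoneda.obj Z)
    _ ((GrothendieckTopology.mem_over_iff _ _).1 hR)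

/-- Morphisms are determined on a covering sieve. -/
theorem cov_ext {U Y : Over S} {R : Sieve U} (hR : R ∈ J S U) {t t' : U ⟶ Y}
    (h : ∀ ⦃V : Over S⦄ (k : V ⟶ U), R k → k ≫ t = k ≫ t') : t = t' := by
  refine Over.OverMorphism.ext ((yoneda_isSheafFor hR Y.left).isSeparatedFor.ext fun V g hg => ?_)
  exact congrArg CommaMorphism.left (h _ ((Sieve.overEquiv_iff R g).1 hg))

/-- Compatible morphisms on a covering sieve glue. -/
theorem cov_glue {U Y : Over S} {R : Sieve U} (hR : R ∈ J S U)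
    (f : ∀ ⦃V : Over S⦄ (k : V ⟶ U), R k → (V ⟶ Y))
    (hf : ∀ ⦃V V' : Over S⦄ (k : V ⟶ U) (hk : R k) (l : V' ⟶ V),
      l ≫ f k hk = f (l ≫ k) (R.downward_closed hk l)) :
    ∃ t : U ⟶ Y, ∀ ⦃V : Over S⦄ (k : V ⟶ U) (hk : R k), k ≫ t = f k hk := by
  have congr_f : ∀ {V : Over S} (k k' : V ⟶ U) (hk : R k) (hk' : R k'), k = k' → f k hk = f k' hk' := by
    rintro V k _ hk hk' rfl; rfl
  let x : Presieve.FamilyOfElements (yoneda.obj Y.left) (Sieve.overEquiv U R).arrows := fun V g hg =>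
    (f (Over.homMk g : Over.mk (g ≫ U.hom) ⟶ U) ((Sieve.overEquiv_iff R g).1 hg)).left
  have hx : x.Compatible := by
    intro V₁ V₂ W g₁ g₂ f₁ f₂ h₁ h₂ e
    let l₁ : Over.mk ((g₁ ≫ f₁) ≫ U.hom) ⟶ Over.mk (f₁ ≫ U.hom) := Over.homMk g₁ (Category.assoc _ _ _).symm
    let l₂ : Over.mk ((g₁ ≫ f₁) ≫ U.hom) ⟶ Over.mk (f₂ ≫ U.hom) := Over.homMk g₂ (by rw [e]; exact (Category.assoc _ _ _).symm)
    have he : l₁ ≫ (Over.homMk f₁ : Over.mk (f₁ ≫ U.hom) ⟶ U) = l₂ ≫ Over.homMk f₂ := Over.OverMorphism.ext e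
    exact congrArg CommaMorphism.left ((hf _ ((Sieve.overEquiv_iff R f₁).1 h₁) l₁).trans
      ((congr_f _ _ _ _ he).trans (hf _ ((Sieve.overEquiv_iff R f₂).1 h₂) l₂).symm))
  obtain ⟨a, ha, -⟩ := yoneda_isSheafFor hR Y.left x hx
  have hw : a ≫ Y.hom = U.hom := by
    refine (yoneda_isSheafFor hR S).isSeparatedFor.ext fun V g hg => ?_
    show g ≫ a ≫ Y.hom = g ≫ U.hom
    rw [← Category.assoc]
    exact (congrArg (· ≫ Y.hom) (ha g hg)).trans (Over.w (f (Over.homMk g : Over.mk (g ≫ U.hom) ⟶ U) _))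
  refine ⟨Over.homMk a hw, fun V k hk => Over.OverMorphism.ext ?_⟩
  have hk' : Sieve.overEquiv U R k.left := (Sieve.overEquiv_iff R k.left).2 (by
    have h := R.downward_closed hk (Over.homMk (𝟙 V.left) (by simp) : Over.mk (k.left ≫ U.hom) ⟶ V)
    convert h using 1
    ext
    simp)
  refine (ha k.left hk').trans ?_
  let l : Over.mk (k.left ≫ U.hom) ⟶ V := Over.homMk (𝟙 V.left) (by simp)
  have e := congrArg CommaMorphism.left (hf k hk l)
  have el : l ≫ k = (Over.homMk k.left : Over.mk (k.left ≫ U.hom) ⟶ U) :=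
    Over.OverMorphism.ext (Category.id_comp _)
  rw [congr_f _ _ (R.downward_closed hk l) ((Sieve.overEquiv_iff R k.left).1 hk') el] at e
  exact e.symm.trans (Category.id_comp _)

/-- A square is cartesian if it is so over the members of a covering sieve. -/
theorem isPullback_of_local {P' P Q Z : Over S} {R : Sieve Z} (hR : R ∈ J S Z) {a : P' ⟶ P} {b : P' ⟶ Z}
    {π : P ⟶ Q} {f : Z ⟶ Q} (w : a ≫ π = b ≫ f)
    (h : ∀ ⦃V : Over S⦄ (k : V ⟶ Z) (x : V ⟶ P), R k → x ≫ π = k ≫ f → ∃! y : V ⟶ P', y ≫ a = x ∧ y ≫ b = k) :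
    IsPullback a b π f := by
  have hkey : ∀ {T : Over S} (x : T ⟶ P) (c : T ⟶ Z) (_ : x ≫ π = c ≫ f) ⦃V : Over S⦄ (k : V ⟶ T),
      (k ≫ x) ≫ π = (k ≫ c) ≫ f := fun x c e V k => by rw [Category.assoc, e, Category.assoc]
  have hex : ∀ (s : PullbackCone π f), ∃! y : s.pt ⟶ P', y ≫ a = s.fst ∧ y ≫ b = s.snd := by
    intro s
    choose y hy hu using fun (V : Over S) (k : V ⟶ s.pt) (hk : R (k ≫ s.snd)) =>
      h (k ≫ s.snd) (k ≫ s.fst) hk (hkey _ _ s.condition k)
    have hT := (J S).pullback_stable s.snd hR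
    obtain ⟨t, ht⟩ := cov_glue hT (fun V k hk => y V k hk) fun V V' k hk l => by
      refine hu V' (l ≫ k) _ _ ⟨?_, ?_⟩
      · rw [Category.assoc, (hy V k hk).1, Category.assoc]
      · rw [Category.assoc, (hy V k hk).2, Category.assoc]
    refine ⟨t, ⟨cov_ext hT fun V k hk => ?_, cov_ext hT fun V k hk => ?_⟩, fun t' ht' => cov_ext hT fun V k hk => ?_⟩
    · rw [← Category.assoc, ht k hk, (hy V k hk).1]
    · rw [← Category.assoc, ht k hk, (hy V k hk).2]
    · rw [ht k hk]
      exact hu V k hk _ ⟨by rw [Category.assoc, ht'.1], by rw [Category.assoc, ht'.2]⟩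
  choose lift hlift hu using hex
  exact ⟨⟨w⟩, ⟨PullbackCone.IsLimit.mk _ lift (fun s => (hlift s).1) (fun s => (hlift s).2)
    fun s m h₁ h₂ => hu s m ⟨h₁, h₂⟩⟩⟩

/-- A covering sieve contains a small covering family. -/
theorem exists_cover_of_mem {U : Over S} {R : Sieve U} (hR : R ∈ J S U) :
    ∃ 𝒰 : Scheme.Cover.{u} Scheme.fpqcPrecoverage U.left, ∀ i, R (Over.homMk (𝒰.f i) : Over.mk (𝒰.f i ≫ U.hom) ⟶ U) := by
  haveI : Precoverage.Small.{u} Scheme.fpqcPrecoverage.{u} :=
    inferInstanceAs (Precoverage.Small.{u} (Scheme.propQCPrecoverage @Flat))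
  rw [GrothendieckTopology.mem_over_iff,
    Precoverage.mem_toGrothendieck_iff_of_isStableUnderComposition] at hR
  obtain ⟨C, hC, hle⟩ := hR
  obtain ⟨E, rfl⟩ := Precoverage.mem_iff_exists_zeroHypercover.1 hC
  exact ⟨Precoverage.ZeroHypercover.restrictIndexOfSmall.{u} E, fun i => (Sieve.overEquiv_iff _ _).1
    (hle _ _ (Presieve.ofArrows.mk (Precoverage.ZeroHypercover.Small.restrictFun E i)))⟩

/-- The sieve generated by an fpqc covering family covers. -/
theorem ofArrows_mem (U : Over S) (𝒰 : Scheme.Cover.{u} Scheme.fpqcPrecoverage U.left) :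
    Sieve.ofArrows (fun i => Over.mk (𝒰.f i ≫ U.hom)) (fun i => (Over.homMk (𝒰.f i) : Over.mk (𝒰.f i ≫ U.hom) ⟶ U)) ∈
      J S U := by
  rw [GrothendieckTopology.mem_over_iff, Sieve.overEquiv_ofArrows]
  exact Precoverage.generate_mem_toGrothendieck 𝒰.mem₀

/-- A morphism with affine base changes to an fpqc covering family is affine. -/
theorem isAffineHom_of_cover {P T : Scheme.{u}} (π : P ⟶ T) (𝒰 : Scheme.Cover.{u} Scheme.fpqcPrecoverage T)
    (h : ∀ i, IsAffineHom (pullback.snd π (𝒰.f i))) : IsAffineHom π := by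
  rw [IsZariskiLocalAtTarget.iff_of_openCover (P := @IsAffineHom) T.affineCover]
  intro j
  let 𝒱 := Precoverage.ZeroHypercover.pullback₁ (T.affineCover.f j) 𝒰
  change IsAffineHom (pullback.snd π (T.affineCover.f j))
  obtain ⟨m, _, W, _, s, a, ha, hg⟩ := Groth.DescentBase.exists_affine_refinement 𝒱
  refine (MorphismProperty.of_pullback_snd_of_descendsAlong (P := @IsAffineHom)
    (Q := @Surjective ⊓ @Flat ⊓ @QuasiCompact) (f := pullback.snd π (T.affineCover.f j)) hg ?_)
  rw [IsZariskiLocalAtTarget.iff_of_openCover (P := @IsAffineHom) (sigmaOpenCover W)]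
  intro k
  change IsAffineHom (pullback.snd (pullback.snd (pullback.snd π (T.affineCover.f j))
    (Sigma.desc fun k => a k ≫ 𝒱.f (s k))) (Sigma.ι W k))
  rw [← MorphismProperty.cancel_left_of_respectsIso @IsAffineHom (pullbackLeftPullbackSndIso _ _ _).inv,
    pullbackLeftPullbackSndIso_inv_snd_snd,
    ← MorphismProperty.cancel_left_of_respectsIso @IsAffineHom (pullbackLeftPullbackSndIso _ _ _).inv,
    pullbackLeftPullbackSndIso_inv_snd_snd]
  have e : (Sigma.ι W k ≫ Sigma.desc fun k => a k ≫ 𝒱.f (s k)) ≫ T.affineCover.f j =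
      (a k ≫ pullback.snd _ _) ≫ 𝒰.f (s k) := by
    rw [Sigma.ι_desc, Category.assoc, Category.assoc]
    exact congrArg (a k ≫ ·) pullback.condition
  refine Groth.DescentBase.of_eq @IsAffineHom π e.symm ?_
  rw [← MorphismProperty.cancel_left_of_respectsIso @IsAffineHom (pullbackLeftPullbackSndIso _ _ _).hom,
    pullbackLeftPullbackSndIso_hom_snd]
  exact MorphismProperty.pullback_snd _ _ (h (s k))

end Groth.BGFpqc
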