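import Groth.Agent.BGFpqc.Points
import Groth.Agent.StkBase.StackMk
import Groth.Prelude.Def_AlgSt5

/-!
# Scheme torsors for the fpqc topology: pullbacks, fibred in groupoids, affineness, gluing of morphisms
-/

set_option autoImplicit false
set_option backward.isDefEq.respectTransparency false
set_option backward.isDefEq.respectTransparency.types false
universe u

open CategoryTheory CategoryTheory.Limits AlgebraicGeometry Opposite MonoidalCategory CartesianMonoidalCategory
open CategoryTheory.MonObj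
open Groth.StkBase (HomExt HomGlue ObjGlue IsVert map_map)

namespace Groth.BGFpqc

noncomputable section

variable {S : Scheme.{u}} {G X : Over S} [GrpObj G] {aX : AlgGrp.Action G X}

local notation "QO" => AlgSt.QuotObj Scheme.fpqcPrecoverage G aX
local notation "Q" => AlgSt.QuotSt Scheme.fpqcPrecoverage G aX

/-- Being locally trivial is stable under base change. -/
theorem loc_pullback (A : QO) {V P : Over S} (f : V ⟶ A.base) {q : P ⟶ A.P} {π : P ⟶ V}
    (sq : IsPullback q π A.π f) :
    NonAbH1.IsLocallyTrivialFor Scheme.fpqcPrecoverage (Over.mk π.left : Over V.left) := by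
  obtain ⟨R, hR, hs⟩ := A.loc
  obtain ⟨E, rfl⟩ := Precoverage.mem_iff_exists_zeroHypercover.1 hR
  refine ⟨_, (Precoverage.ZeroHypercover.pullback₁ f.left E).mem₀, ?_⟩
  rintro T _ ⟨i⟩
  obtain ⟨s, hs⟩ := hs (E.f i) (Presieve.ofArrows.mk i)
  have hs' : s ≫ A.π.left = E.f i := hs
  have sq' : IsPullback q.left π.left A.π.left f.left := sq.map (Over.forget S)
  refine ⟨sq'.lift (pullback.snd f.left (E.f i) ≫ s) (pullback.fst f.left (E.f i)) ?_, sq'.lift_snd _ _ _⟩
  rw [Category.assoc, hs', pullback.condition]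

section Pull

variable (A : AlgSt.QuotObj Scheme.fpqcPrecoverage G aX) {V : Over S} (f : V ⟶ A.base)

/-- The action on a pullback of a torsor. -/
def pullAct : G ⊗ pullback A.π f ⟶ pullback A.π f :=
  pullback.lift ((G ◁ pullback.fst A.π f) ≫ A.act.act) (snd G _ ≫ pullback.snd A.π f) (by
    rw [Category.assoc, A.cart.w, ← Category.assoc, whiskerLeft_snd, Category.assoc, pullback.condition,
      Category.assoc])

theorem pullAct_fst : pullAct A f ≫ pullback.fst A.π f = (G ◁ pullback.fst A.π f) ≫ A.act.act :=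
  pullback.lift_fst _ _ _

theorem pullAct_snd : pullAct A f ≫ pullback.snd A.π f = snd G _ ≫ pullback.snd A.π f :=
  pullback.lift_snd _ _ _

/-- The pullback of a torsor along a morphism of bases. -/
def pullObj : QO where
  base := V
  P := pullback A.π f
  act :=
    { act := pullAct A f
      one_act := by
        apply pullback.hom_ext
        · rw [Category.assoc, pullAct_fst, ← Category.assoc, ← whisker_exchange, Category.assoc, A.act.one_act,
            leftUnitor_naturality]
        · rw [Category.assoc, pullAct_snd, whiskerRight_snd_assoc, leftUnitor_hom]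
      mul_act := by
        apply pullback.hom_ext
        · rw [Category.assoc, pullAct_fst, ← Category.assoc, ← whisker_exchange, Category.assoc, A.act.mul_act,
            Category.assoc, Category.assoc, pullAct_fst, ← MonoidalCategory.whiskerLeft_comp_assoc, pullAct_fst,
            MonoidalCategory.whiskerLeft_comp, Category.assoc, ← Category.assoc, associator_naturality_right,
            Category.assoc]
        · simp only [Category.assoc, pullAct_snd, whiskerRight_snd_assoc, whiskerLeft_snd_assoc,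
            associator_hom_snd_snd_assoc] }
  π := pullback.snd A.π f
  cart := by
    refine IsPullback.of_right (h₁₂ := pullback.fst A.π f) (h₂₂ := f) ?_ (pullAct_snd A f)
      (IsPullback.of_hasPullback _ _)
    rw [pullAct_fst, ← pullback.condition]
    exact (AlgSt.isPullback_whiskerLeft (G := G) _).paste_horiz A.cart
  loc := loc_pullback A f (IsPullback.of_hasPullback A.π f)
  φ := pullback.fst A.π f ≫ A.φ
  eqv := by rw [← Category.assoc, pullAct_fst, Category.assoc, A.eqv, ← MonoidalCategory.whiskerLeft_comp_assoc]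

/-- The cartesian morphism from the pullback. -/
def pullHom : pullObj A f ⟶ A where
  base := f
  top := pullback.fst A.π f
  eqv := pullAct_fst A f
  cart := IsPullback.of_hasPullback _ _
  wφ := rfl

theorem pullHom_base : (pullHom A f).base = f := rfl

end Pull

/-- Morphisms of torsors are cartesian. -/
theorem existsUnique_quotHom {A A' A'' : QO} (φ : A' ⟶ A) (ψ : A'' ⟶ A) (g : A''.base ⟶ A'.base)
    (hg : g ≫ φ.base = ψ.base) : ∃! χ : A'' ⟶ A', χ.base = g ∧ χ ≫ φ = ψ := by
  have w : ψ.top ≫ A.π = (A''.π ≫ g) ≫ φ.base := by rw [ψ.cart.w, Category.assoc, hg]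
  let t := φ.cart.lift ψ.top (A''.π ≫ g) w
  have ht₁ : t ≫ φ.top = ψ.top := φ.cart.lift_fst _ _ _
  have ht₂ : t ≫ A'.π = A''.π ≫ g := φ.cart.lift_snd _ _ _
  have heqv : A''.act.act ≫ t = (G ◁ t) ≫ A'.act.act := by
    apply φ.cart.hom_ext
    · rw [Category.assoc, ht₁, ψ.eqv, Category.assoc, φ.eqv, ← MonoidalCategory.whiskerLeft_comp_assoc, ht₁]
    · rw [Category.assoc, ht₂, Category.assoc, A'.cart.w, ← Category.assoc, A''.cart.w, whiskerLeft_snd_assoc,
        ht₂, Category.assoc]
  have hcart : IsPullback t A''.π A'.π g :=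
    IsPullback.of_right (by rw [ht₁, hg]; exact ψ.cart) ht₂ φ.cart
  have hwφ : t ≫ A'.φ = A''.φ := by rw [← φ.wφ, ← Category.assoc, ht₁, ψ.wφ]
  refine ⟨⟨g, t, heqv, hcart, hwφ⟩, ⟨rfl, AlgSt.QuotObj.hom_ext hg ht₁⟩, ?_⟩
  rintro χ ⟨h₁, h₂⟩
  refine AlgSt.QuotObj.hom_ext h₁ (φ.cart.hom_ext ?_ ?_)
  · exact (congrArg (fun m => m.top) h₂).trans ht₁.symm
  · rw [χ.cart.w, h₁, ht₂]

variable (aX) in
theorem isFibGrpd_quotSt : FibCat.IsFibGrpd (Q).p :=
  Groth.StkBase.isFibGrpd_mk
    (fun {A} {V} f => ⟨pullObj A f, pullHom A f, rfl, (Category.id_comp _).symm⟩)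
    (fun {A'' A' A} φ ψ g hg => existsUnique_quotHom φ ψ g hg)

/-- The structure map of a torsor under an affine group is affine. -/
theorem isAffineHom_π [IsAffineHom G.hom] (A : QO) : IsAffineHom A.π.left := by
  obtain ⟨R, hR, hs⟩ := A.loc
  haveI : Precoverage.Small.{u} Scheme.fpqcPrecoverage.{u} :=
    inferInstanceAs (Precoverage.Small.{u} (Scheme.propQCPrecoverage @Flat))
  obtain ⟨E, rfl⟩ := Precoverage.mem_iff_exists_zeroHypercover.1 hR
  refine isAffineHom_of_cover _ (Precoverage.ZeroHypercover.restrictIndexOfSmall.{u} E) fun i => ?_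
  let j := Precoverage.ZeroHypercover.Small.restrictFun E i
  obtain ⟨s, hs⟩ := hs (E.f j) (Presieve.ofArrows.mk j)
  have hs' : s ≫ A.π.left = E.f j := hs
  let T : Over S := Over.mk (E.f j ≫ A.base.hom)
  let σ : T ⟶ A.P := Over.homMk s (by
    show s ≫ A.P.hom = E.f j ≫ A.base.hom
    rw [← Over.w A.π, ← Category.assoc, hs'])
  have hsnd : IsAffineHom (snd G T).left := by
    refine MorphismProperty.of_isPullback ((AlgSt.isPullback_fst_snd G T).map (Over.forget S)) ?_
    show IsAffineHom (toUnit G).left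
    rw [show (toUnit G).left = G.hom from (Category.comp_id _).symm.trans (Over.w (toUnit G))]
    infer_instance
  have hb := ((AlgSt.isPullback_whiskerLeft (G := G) σ).paste_horiz A.cart).map (Over.forget S)
  change IsPullback _ _ A.π.left (s ≫ A.π.left) at hb
  refine Groth.DescentBase.of_eq @IsAffineHom A.π.left hs' ?_
  rw [← hb.isoPullback_inv_snd]
  exact (MorphismProperty.cancel_left_of_respectsIso @IsAffineHom hb.isoPullback.inv _).2 hsnd

section Hom

variable {U : Over S} {R : Sieve U}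

theorem homExt_quotSt (hR : R ∈ J S U) : HomExt Q R := by
  intro a b ha χ χ' hχ hχ' hl
  subst ha
  refine AlgSt.QuotObj.hom_ext ((show χ.base = _ from hχ.map_eq).trans (show χ'.base = _ from hχ'.map_eq).symm)
    (cov_ext ((J S).pullback_stable a.π hR) fun V k hk => ?_)
  have e := congrArg (fun m => m.top) (hl (pullHom a (k ≫ a.π)) (by
    rw [eqToHom_refl, Category.comp_id]; exact hk))
  let σ : V ⟶ (pullObj a (k ≫ a.π)).P := pullback.lift k (𝟙 V) (by simp)
  have hσ : σ ≫ (pullHom a (k ≫ a.π)).top = k := pullback.lift_fst _ _ _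
  have e' := congrArg (σ ≫ ·) e
  simp only [AlgSt.QuotObj.comp_top, ← Category.assoc, hσ] at e'
  exact e'

theorem homGlue_quotSt (hR : R ∈ J S U) : HomGlue Q R := by
  intro a b ha hb m hm hc
  subst ha
  have hab : b.base = a.base := hb
  have hmem : ∀ ⦃a' : QO⦄ (l : a' ⟶ a), R l.base → R ((Q).p.map l ≫ eqToHom (rfl : (Q).p.obj a = _)) := fun a' l hl => by
    rw [eqToHom_refl, Category.comp_id]; exact hl
  let m' : ∀ ⦃a' : QO⦄ (l : a' ⟶ a), R l.base → (a' ⟶ b) := fun a' l hl => m l (hmem l hl)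
  have congr_m : ∀ {a' : QO} {l l' : a' ⟶ a} (h : R l.base) (h' : R l'.base), l = l' → m' l h = m' l' h' := by
    rintro a' l _ h h' rfl; rfl
  have hcomp : ∀ {a' a'' : QO} (l : a' ⟶ a) (hl : R l.base) (κ : a'' ⟶ a') (hkl : R (κ ≫ l).base),
      κ ≫ m' l hl = m' (κ ≫ l) hkl := fun l hl κ hkl => hc l _ κ _
  have hmb : ∀ {a' : QO} (l : a' ⟶ a) (hl : R l.base), (m' l hl).base = l.base ≫ eqToHom hab.symm :=
    fun l hl => hm l _
  -- values at points
  have hval : ∀ {V : Over S} (k : V ⟶ a.P) (hk : R (k ≫ a.π)), ∃ v : V ⟶ b.P,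
      ∀ {a' : QO} (l : a' ⟶ a) (hl : R l.base) (y : V ⟶ a'.P), y ≫ l.top = k → y ≫ (m' l hl).top = v := by
    intro V k hk
    let l₀ := pullHom a (k ≫ a.π)
    let σ : V ⟶ (pullObj a (k ≫ a.π)).P := pullback.lift k (𝟙 V) (by simp)
    refine ⟨σ ≫ (m' l₀ hk).top, fun {a'} l hl y hy => ?_⟩
    have hyb : (y ≫ a'.π) ≫ l.base = l₀.base := by
      show _ = k ≫ a.π
      rw [Category.assoc, ← l.cart.w, ← Category.assoc, hy]
    obtain ⟨κ, ⟨hκ₁, hκ₂⟩, -⟩ := existsUnique_quotHom l l₀ (y ≫ a'.π) hyb
    have hσκ : σ ≫ κ.top = y := by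
      apply l.cart.hom_ext
      · have e₀ : κ.top ≫ l.top = l₀.top := congrArg (fun m => m.top) hκ₂
        rw [hy, Category.assoc, e₀]
        exact pullback.lift_fst _ _ _
      · rw [Category.assoc, κ.cart.w, hκ₁, ← Category.assoc]
        show (pullback.lift k (𝟙 V) _ ≫ pullback.snd a.π (k ≫ a.π)) ≫ _ = _
        rw [pullback.lift_snd, Category.id_comp]
    have hkl : R (κ ≫ l).base := by rw [hκ₂]; exact hk
    have e := congrArg (fun m => m.top) ((hcomp l hl κ hkl).trans (congr_m hkl hk hκ₂))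
    rw [← hσκ, Category.assoc]
    exact congrArg (σ ≫ ·) e
  choose v hv using @hval
  have hT := (J S).pullback_stable a.π hR
  obtain ⟨t, ht⟩ := cov_glue hT (fun V k hk => v k hk) fun V V' k hk g => by
    let l₀ := pullHom a (k ≫ a.π)
    let σ : V ⟶ (pullObj a (k ≫ a.π)).P := pullback.lift k (𝟙 V) (by simp)
    have hσ : σ ≫ l₀.top = k := pullback.lift_fst _ _ _
    rw [← hv k hk l₀ hk σ hσ, ← hv (g ≫ k) _ l₀ hk (g ≫ σ) (by rw [Category.assoc, hσ]), Category.assoc]
  have htl : ∀ {a' : QO} (l : a' ⟶ a) (hl : R l.base), l.top ≫ t = (m' l hl).top := by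
    intro a' l hl
    have hk : (R.pullback a.π) l.top := by
      show R (l.top ≫ a.π)
      rw [l.cart.w]
      exact R.downward_closed hl _
    rw [ht _ hk, ← hv l.top hk l hl (𝟙 _) (Category.id_comp _), Category.id_comp]
  have hlift : ∀ {V : Over S} (k : V ⟶ a.P), R (k ≫ a.π) →
      ∃ (a' : QO) (l : a' ⟶ a) (y : V ⟶ a'.P), R l.base ∧ y ≫ l.top = k := fun k hk =>
    ⟨_, pullHom a (k ≫ a.π), pullback.lift k (𝟙 _) (by simp), hk, pullback.lift_fst _ _ _⟩
  have htπ : t ≫ b.π = a.π ≫ eqToHom hab.symm := cov_ext hT fun V k hk => by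
    obtain ⟨a', l, y, hl, rfl⟩ := hlift k hk
    rw [Category.assoc, ← Category.assoc l.top, htl l hl, (m' l hl).cart.w, hmb l hl, Category.assoc,
      ← Category.assoc l.top, l.cart.w, Category.assoc]
  have heqv : a.act.act ≫ t = (G ◁ t) ≫ b.act.act := by
    refine cov_ext ((J S).pullback_stable (snd G a.P) hT) fun V k hk => ?_
    obtain ⟨a', l, y, hl, hy⟩ := hlift (k ≫ snd G a.P) hk
    have hk' : k = lift (k ≫ fst G a.P) y ≫ (G ◁ l.top) := by
      apply CartesianMonoidalCategory.hom_ext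
      · simp
      · simp [hy]
    rw [hk', Category.assoc, Category.assoc, ← Category.assoc (G ◁ l.top), ← l.eqv, Category.assoc, htl l hl,
      (m' l hl).eqv, ← MonoidalCategory.whiskerLeft_comp_assoc, htl l hl]
  have hwφ : t ≫ b.φ = a.φ := cov_ext hT fun V k hk => by
    obtain ⟨a', l, y, hl, rfl⟩ := hlift k hk
    rw [Category.assoc, ← Category.assoc l.top, htl l hl, (m' l hl).wφ, Category.assoc, l.wφ]
  have hcart : IsPullback t a.π b.π (eqToHom hab.symm) := by
    refine isPullback_of_local hR htπ fun V k x hk e => ?_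
    let l := pullHom a k
    have hmk : (m' l hk).base = k ≫ eqToHom hab.symm := hmb l hk
    have w : x ≫ b.π = 𝟙 V ≫ (m' l hk).base := by rw [hmk, Category.id_comp, e]
    let y := (m' l hk).cart.lift x (𝟙 V) w
    have hy₁ : y ≫ (m' l hk).top = x := (m' l hk).cart.lift_fst _ _ _
    have hy₂ : y ≫ pullback.snd a.π k = 𝟙 V := (m' l hk).cart.lift_snd _ _ _
    refine ⟨y ≫ l.top, ⟨by rw [Category.assoc, htl l hk, hy₁], ?_⟩, fun y' hy' => ?_⟩
    · show (y ≫ l.top) ≫ a.π = k
      rw [Category.assoc, l.cart.w]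
      show y ≫ pullback.snd a.π k ≫ k = k
      rw [← Category.assoc, hy₂, Category.id_comp]
    · let z : V ⟶ (pullObj a k).P := pullback.lift y' (𝟙 V) (by rw [hy'.2, Category.id_comp])
      have hz : z ≫ l.top = y' := pullback.lift_fst _ _ _
      have hzy : z = y := by
        apply (m' l hk).cart.hom_ext
        · rw [hy₁, ← htl l hk, ← Category.assoc, hz, hy'.1]
        · exact (pullback.lift_snd _ _ _).trans hy₂.symm
      rw [← hz, hzy]
  let χ : a ⟶ b := ⟨eqToHom hab.symm, t, heqv, hcart, hwφ⟩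
  refine ⟨χ, ⟨hab.symm, rfl⟩, fun a' l hl => ?_⟩
  have hl' : R l.base := by rwa [eqToHom_refl, Category.comp_id] at hl
  exact AlgSt.QuotObj.hom_ext (hmb l hl').symm (htl l hl')

end Hom

end

end Groth.BGFpqc
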